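import Mathlib
import Cfsg.Agent.Lib.Helper14.Spec.Defs

set_option autoImplicit false

/-! SPEC (S2362), package TDET: an element of the commutant of an irreducible endomorphism in
dimension `2 d` whose `(q ^ d + 1)`-th power is one has determinant one. -/

universe u

namespace Cfsg.Agent.Lib.Helper65.Spec

open Cfsg.Agent.Lib.Helper14.Spec Module

theorem pkgTorusDet : PkgTorusDet.{u} := by
  intro hModel F _ _ W _ _ _ d hd x hx t htx ht
  obtain ⟨K, _, _, _, φ, hφ, hcomm, hcard⟩ := hModel x hx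
  obtain ⟨z, rfl⟩ := (hcomm t).mp htx
  classical
  have hz : z ^ (Fintype.card F ^ d + 1) = 1 := by
    have h1 := ht
    rw [← map_pow, ← map_one φ] at h1
    exact hφ h1
  have hz0 : z ≠ 0 := by
    rintro rfl
    rw [zero_pow (Nat.succ_ne_zero _)] at hz
    exact zero_ne_one hz
  have hq1 : 1 < Fintype.card F := Fintype.one_lt_card
  have hqd : 1 ≤ Fintype.card F ^ d := Nat.one_le_pow _ _ (by omega)
  have hfac : Fintype.card F ^ (2 * d) - 1 = (Fintype.card F ^ d - 1) * (Fintype.card F ^ d + 1) := by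
    obtain ⟨s, hs⟩ := Nat.exists_eq_add_of_le' hqd
    rw [mul_comm 2 d, pow_mul, hs]
    have e1 : s + 1 - 1 = s := by omega
    rw [e1]
    apply Nat.sub_eq_of_eq_add
    ring
  have hcardK : Fintype.card Kˣ = Fintype.card F ^ (2 * d) - 1 := by
    rw [Fintype.card_units, hcard, hd]
  obtain ⟨g, hg⟩ := IsCyclic.exists_generator (α := Kˣ)
  have hgo : orderOf g = Fintype.card F ^ (2 * d) - 1 := by
    rw [← hcardK, ← Nat.card_eq_fintype_card]
    exact orderOf_eq_card_of_forall_mem_zpowers hg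
  obtain ⟨j, hj⟩ : ∃ j : ℕ, g ^ j = Units.mk0 z hz0 := by
    have h1 := hg (Units.mk0 z hz0)
    rw [← mem_powers_iff_mem_zpowers] at h1
    exact (Submonoid.mem_powers_iff _ _).mp h1
  have hzu : (Units.mk0 z hz0) ^ (Fintype.card F ^ d + 1) = 1 := by
    apply Units.ext
    simpa using hz
  have hdvd : Fintype.card F ^ d - 1 ∣ j := by
    rw [← hj, ← pow_mul] at hzu
    have h1 := orderOf_dvd_of_pow_eq_one hzu
    rw [hgo, hfac] at h1
    exact Nat.dvd_of_mul_dvd_mul_right (by omega) h1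
  obtain ⟨j', rfl⟩ := hdvd
  have hzz : z = ((g ^ j' : Kˣ) : K) ^ (Fintype.card F ^ d - 1) := by
    have h1 := congrArg Units.val hj
    rw [Units.val_mk0] at h1
    rw [← h1, ← Units.val_pow_eq_pow_val, ← pow_mul, mul_comm]
  set z₀ : K := ((g ^ j' : Kˣ) : K) with hz₀
  have hz₀0 : z₀ ≠ 0 := Units.ne_zero _
  have hdet0 : LinearMap.det (φ z₀) ≠ 0 := by
    intro h0
    have h1 : φ z₀ * φ z₀⁻¹ = 1 := by rw [← map_mul, mul_inv_cancel₀ hz₀0, map_one]
    have h2 := congrArg LinearMap.det h1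
    rw [map_mul, h0, zero_mul, map_one] at h2
    exact zero_ne_one h2
  have hdet1 : LinearMap.det (φ z₀) ^ (Fintype.card F - 1) = 1 :=
    FiniteField.pow_card_sub_one_eq_one _ hdet0
  obtain ⟨e, he⟩ : Fintype.card F - 1 ∣ Fintype.card F ^ d - 1 := Nat.sub_one_dvd_pow_sub_one _ _
  rw [hzz, map_pow, map_pow, he, pow_mul, hdet1, one_pow]

end Cfsg.Agent.Lib.Helper65.Spec
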